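import Groth.Agent.CurvSt.K898.QCFinal
import Groth.Agent.CurvSt.K898.QCAny
import Groth.Agent.CurvSt.K333.StableOpen
import Groth.Agent.CurvSt.K310.ExistsCurve

/-!
# `Mbar S g n` is quasi-compact over a quasi-compact base, given algebraicity

* `openCond_stable` : the stable locus of a pointed family is open (as `QCParam.OpenCond`);
* `main` : from `IsAlgStack fppf (Mbar S g n)` the three assertions of S16724.
-/

set_option autoImplicit false
universe u
open CategoryTheory CategoryTheory.Limits AlgebraicGeometry Opposite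

namespace K45.MbarQC

open CurvSt K898.QCParam K898.QCFinal K333.StableOpen K901.SchLoc IsLocalRing

/-- marked points of composed squares -/
theorem markedPt_comp {C T C' T' : Scheme.{u}} {n : ℕ} {f : C ⟶ T} (σ : Fin n → (T ⟶ C)) (hσ : ∀ i, σ i ≫ f = 𝟙 T)
    {f' : C' ⟶ T'} (σ' : Fin n → (T' ⟶ C')) (hσ' : ∀ i, σ' i ≫ f' = 𝟙 T') {b : T' ⟶ T} {a : C' ⟶ C}
    (h : IsPullback a f' f b) (hσa : ∀ i, σ' i ≫ a = b ≫ σ i) {Ω : Type u} [Field Ω]
    {t : Spec (CommRingCat.of Ω) ⟶ T'} {X : Scheme.{u}} {i : X ⟶ C'} {q : X ⟶ Spec (CommRingCat.of Ω)}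
    (hP : IsPullback i q f' t) (j : Fin n) :
    markedPt σ hσ (hP.paste_horiz h) j = markedPt σ' hσ' hP j := by
  have key : (hP.paste_horiz h).lift ((t ≫ b) ≫ σ j) (𝟙 _)
      (by rw [Category.assoc, hσ, Category.comp_id, Category.id_comp]) =
      hP.lift (t ≫ σ' j) (𝟙 _) (by rw [Category.assoc, hσ', Category.comp_id, Category.id_comp]) := by
    refine (hP.paste_horiz h).hom_ext ?_ ?_
    · rw [IsPullback.lift_fst, IsPullback.lift_fst_assoc, Category.assoc, Category.assoc, hσa]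
    · rw [IsPullback.lift_snd, IsPullback.lift_snd]
  exact congrArg (fun φ => φ.base (closedPoint Ω)) key

theorem openCond_stable (g n : ℕ) : OpenCond (PStab.{u} g n) := by
  intro C T f σ hσ h1 h2 h3 h4
  refine ⟨⟨Loc (StabProp n g) f σ hσ, isOpen_stable f σ hσ g⟩, ?_⟩
  intro C' T' f' σ' hσ' b a sq hσa
  have h1' : Flat f' := MorphismProperty.of_isPullback (P := @Flat) sq h1
  have h2' : IsProper f' := MorphismProperty.of_isPullback (P := @IsProper) sq h2
  have h3' : LocallyOfFinitePresentation f' := MorphismProperty.of_isPullback (P := @LocallyOfFinitePresentation) sq h3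
  have key : ∀ (Ω : Type u) [Field Ω] [IsAlgClosed Ω] (t : Spec (CommRingCat.of Ω) ⟶ T') (X : Scheme.{u})
      (i : X ⟶ C') (q : X ⟶ Spec (CommRingCat.of Ω)) (hP : IsPullback i q f' t),
      IsStablePtd Ω X q g (markedPt σ' hσ' hP) ↔ b.base (t.base (closedPoint Ω)) ∈ Loc (StabProp n g) f σ hσ := by
    intro Ω _ _ t X i q hP
    have h5 := isStablePtd_iff f σ hσ g (hP.paste_horiz sq)
    have h6 : markedPt σ hσ (hP.paste_horiz sq) = markedPt σ' hσ' hP :=
      funext fun j => markedPt_comp σ hσ σ' hσ' sq hσa hP j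
    rw [h6] at h5
    exact h5
  constructor
  · rintro ⟨-, -, -, h⟩ _ ⟨s, rfl⟩
    obtain ⟨Ω, _, _, t, ht⟩ := K901.GeomLoc.exists_geomPt s
    have h7 := (key Ω t _ _ _ (IsPullback.of_hasPullback f' t)).1 (h Ω t _ _ _ _)
    rw [ht] at h7
    exact h7
  · intro h
    exact ⟨h1', h2', h3', fun Ω _ _ t X i q hP => (key Ω t X i q hP).2 (h ⟨_, rfl⟩)⟩

/-- quasi-compactness of `Mbar S g n` for `S` quasi-compact -/
theorem isQuasiCompact_mbar (S : Scheme.{u}) [CompactSpace S] (g n : ℕ)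
    (hA : AlgSt.IsAlgStack Scheme.fppfPrecoverage (Mbar S g n)) : AlgSt.IsQuasiCompact (Mbar S g n) := by
  obtain ⟨B, hB, hBq, hB'⟩ := exists_family (PStab g n) (openCond_stable g n) (K898.QCStable.Kst g n)
    (K898.QCStable.bounded_stable g n) (fun Ω _ _ X q x hx h => kst_of_isStableFam q x hx h) S
  have hc : CompactSpace ↥B.base.left := by
    have := hBq
    exact QuasiCompact.compactSpace_of_compactSpace B.base.hom
  refine K898.QCAny.isQuasiCompact_of_family hA.isStack.1 hA.atlas (⟨B, hB⟩ : (Mbar S g n).obj) hc ?_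
  intro Ω _ _ t x hx
  obtain ⟨m⟩ := hB' Ω t x.obj hx x.property
  exact ⟨ObjectProperty.homMk m⟩

theorem main (S : Scheme.{u}) [CompactSpace S] (g n : ℕ) (h : 3 ≤ 2 * g + n)
    (hA : AlgSt.IsAlgStack Scheme.fppfPrecoverage (Mbar S g n)) :
    AlgSt.IsAlgStack Scheme.etalePrecoverage (CurvSt.Mbar S g n) ∧ AlgSt.IsQuasiCompact (CurvSt.Mbar S g n) ∧
      ∀ (Ω : Type u) [Field Ω] [IsAlgClosed Ω] (t : Spec (CommRingCat.of Ω) ⟶ S),
        Nonempty ((CurvSt.Mbar S g n).p.Fiber (Over.mk t)) :=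
  ⟨(K747.EtFppf.isAlgStack_iff (K747.EtFppf.boot2 S)).2 hA, isQuasiCompact_mbar S g n hA,
    fun _ _ _ t => K310.ExistsCurve.nonempty_Mbar_fiber t g n h⟩

end K45.MbarQC
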