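import Groth.Agent.CurvSt.K740.DiagLfp
import Groth.Agent.CurvSt.K902.SchInst
import Groth.Agent.AlgSt.K738.Open1
import Groth.Agent.AlgSt.K738.Aut3
import Groth.Agent.AlgSt.K740.SpIso
import Groth.Agent.S1496
import Groth.Agent.Ega2.AmpleUnit
import Groth.Agent.Cons9.K119.RelAmpInd

/-!
# The stack of prestable pointed curves: algebraicity, diagonal, local projectivity

* `hasOpenLocus_prestablePtd`, `isAlgStack_etale`, `diag`, `exists_fiber`, `exists_projective`.
-/

set_option autoImplicit false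
set_option backward.isDefEq.respectTransparency false
set_option backward.isDefEq.respectTransparency.types false
universe u
open CategoryTheory CategoryTheory.Limits AlgebraicGeometry Opposite AlgSp CurvSt

namespace K45.Rat0

open K901.SchLoc K901.SchPre K901.GeomFibAt K901.EtSch K899.OpenCrit

theorem hasOpenLocus_prestablePtd (S : Scheme.{u}) (g n : ℕ) :
    HasOpenLocus (𝒳 := Curves S n) (fun A => SpIsPrestablePtd A.obj g) :=
  K901.EtSch.hasOpenLocus (extDesc_prestable n g) (fun A => K902.EtSchFin.etLocSch A.property) fun B h1 h2 h3 _ => by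
    rw [locus_toSpFam]
    exact isOpen_prestable B.f B.sect B.sect_f g

theorem isOpenSubstack (S : Scheme.{u}) (g n : ℕ) :
    AlgSt.IsOpenSubstack (Curves S n) (fun A => SpIsPrestablePtd A.obj g) Scheme.fppfPrecoverage :=
  K899.OpenCrit.isOpenSubstack (K740.CurvAlg.isAlgStack_curves S n) (hasOpenLocus_prestablePtd S g n)

theorem isAlgStack_etale (S : Scheme.{u}) (g n : ℕ) :
    AlgSt.IsAlgStack Scheme.etalePrecoverage (AlgSt.fullSub (Curves S n) (fun A => SpIsPrestablePtd A.obj g)) :=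
  K738.AutDM.isAlgStack_etale (isOpenSubstack S g n).2.1

theorem diag (S : Scheme.{u}) (g n : ℕ) :
    AlgSt.RepByAlgSpWith (AlgSp.IsSeparatedMor ⊓ AlgSp.LocP @LocallyOfFiniteType)
      (FibCat.diag (FibCat.toSelf (AlgSt.fullSub (Curves S n) (fun A => SpIsPrestablePtd A.obj g)))) := by
  refine K738.OSub.repByAlgSpWith_diag_fullSub _ ?_ (hasOpenLocus_prestablePtd S g n).of_hom
  refine K740.SpIso.repByAlgSpWith_inf (K740.CurvAlg.isSeparatedMor_diag S n) ?_
  intro U y
  obtain ⟨F, e, he, h⟩ := K740.CurvAlg.lfp_diag S n U y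
  exact ⟨F, e, he, K597.locP_mono
    (fun _ _ f (_ : LocallyOfFinitePresentation f) => (inferInstance : LocallyOfFiniteType f)) h⟩

theorem prestablePtd_of_nodConn {g : ℕ} {Ω : Type u} [Field Ω] [IsAlgClosed Ω] {X : Scheme.{u}}
    (q : X ⟶ Spec (CommRingCat.of Ω)) [IsProper q] (m : Fin 0 → X)
    (h : K902.SchInst.NodConn Ω X q ∧ @Curv2.genus Ω _ X ⟨q⟩ = g) : StMap.IsPrestablePtd Ω X q g m :=
  (prestable_field_iff g q m fun i => i.elim0).2 ⟨h.1.1, h.1.2, h.2, fun i => i.elim0, fun i => i.elim0⟩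

theorem exists_fiber {S : Scheme.{u}} (g : ℕ) {Ω : Type u} [Field Ω] [IsAlgClosed Ω]
    (t : Spec (CommRingCat.of Ω) ⟶ S) :
    Nonempty ((AlgSt.fullSub (Curves S 0) (fun A => SpIsPrestablePtd A.obj g)).p.Fiber (Over.mk t)) := by
  refine K902.SchInst.exists_fiber g t _ fun A hA => ?_
  have h := (K902.SchInst.spIsPrestable_and_genus_iff A.property g).1 hA
  intro Ω' _ _ t' X' q' i sq
  have hp : IsProper q' := (K901.SchFib.facts A.property sq).2.1
  exact prestablePtd_of_nodConn q' _ (h Ω' t' X' q' i sq)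

/-- Etale locally on the base an unpointed family of curves is a projective scheme. -/
theorem exists_projective {S : Scheme.{u}} (A : SpFamObj S 0) (hA : IsCurveFam A) (t : A.base.left) :
    ∃ (T' : Scheme.{u}) (e : T' ⟶ A.base.left), IsAffine T' ∧ Etale e ∧ t ∈ Set.range e.base ∧
      ∃ (C' : Scheme.{u}) (f' : C' ⟶ T')
        (φ : (toSpFam S 0).obj ⟨Over.mk (e ≫ A.base.hom), C', f', Fin.elim0, fun i => Fin.elim0 i⟩ ⟶ A),
        φ.base.left = e ∧ ∃ L : C'.Modules, PicF.IsInvertible L ∧ RelAmple.IsRelAmple f' L := by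
  obtain ⟨T', e, v, X', q, j, hT, he, hv, sq, hproj⟩ :=
    K902.EtSchRed.exists_hProjective K902.EtSchFin.projEtLoc hA (K902.EtSchFin.etLocSch hA) t
  have hS : ∃ N : T'.Modules, CohB1.IsAmple N := ⟨_, Groth.Agent.Ega2.Weight.isAmple_structureModule T'⟩
  obtain ⟨n, i, hi, hif⟩ := hproj
  have h1 := (Groth.Agent.S1496.result hS q).1.1 ⟨n, i, hi, hif⟩
  obtain ⟨-, L, hL⟩ := (Groth.Agent.S1496.result hS q).2.1 h1
  let B : PtFamObj S 0 := ⟨Over.mk (e ≫ A.base.hom), X', q, Fin.elim0, fun i => Fin.elim0 i⟩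
  let ψ : B ⟶ schFam A sq :=
    { base := 𝟙 _
      top := 𝟙 _
      cart := IsPullback.of_horiz_isIso ⟨by
        change 𝟙 X' ≫ q = q ≫ 𝟙 T'
        rw [Category.id_comp, Category.comp_id]⟩
      w_sect := fun i => i.elim0 }
  refine ⟨T', e, hT, he, ⟨v, hv⟩, X', q, (toSpFam S 0).map ψ ≫ schFamHom A sq, ?_, L,
    K119.RelAmpInd.isInvertible_of_isRelAmple hL, hL⟩
  change 𝟙 T' ≫ e = e
  rw [Category.id_comp]

end K45.Rat0
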